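import Cfsg.Agent.H819.Dg.ExcD4

/-!
# S5714: `³D₄(q)`, the proof of helper819 (H819/Dg/ExcD4.lean) with the exceptional case made explicit
-/

set_option autoImplicit false

namespace Cfsg.Agent.H220.Rg

open Cfsg Cfsg.Lie Cfsg.Agent.OrdDiv
open Cfsg.Agent.H290.ElReg Cfsg.Agent.H290.ElEng Cfsg.Agent.H290.ElRich Cfsg.Agent.H290.ElMain
open Cfsg.Agent.H946.Num
open Cfsg.Agent.H436 (Prim IsNamed Cond exists_prim)
open Cfsg.Agent.H915.GN (HasChar)
open Cfsg.Agent.H325.Loc (PIso)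
open Cfsg.Agent.H325.Same Cfsg.Agent.H264.FKS
open Cfsg.Agent.H851.Dg (CycP MissC nd nd_anti)
open Cfsg.Agent.H819.Dg

/-- **`³D₄(q)`.** -/
theorem exc_td4' (has : ASThm.{0}) (hrf : RichFix.{0})
    (hft : ∀ (X : Type) [Group X] [Finite X], ¬ Group.IsSolvable X → 2 ∣ Nat.card X)
    (hnm : ∀ (S : Type) [Group S] [Finite S] [IsSimpleGroup S], ¬ IsMulCommutative S → ∃ g, IsNamed g S) :
    ∃ B : ℕ, ∀ {T : Type} [Group T] [Finite T] {q : ℕ}, IsNamed (.td4 q) T → B ≤ Nat.card T →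
      ∀ R : Subgroup T, R ≠ ⊤ → MissC R ∨ ∃ (t : ℕ) (a : T), t.Prime ∧ t ∣ Nat.card T ∧ CycP t T ∧ orderOf a = t ∧
        R ≤ Subgroup.normalizer (Subgroup.zpowers a : Set T) ∧
        Nat.card T ≤ 16 * nd (Subgroup.normalizer (Subgroup.zpowers a : Set T)) := by
  obtain ⟨c98, h98⟩ : ∃ n, ∀ m, m ≤ 98 → Nat.factorial m ≤ n := ⟨_, fun m hm => Nat.factorial_le hm⟩
  obtain ⟨c78, h78⟩ : ∃ n, n = 78 ^ 30 := ⟨_, rfl⟩
  refine ⟨(1 * K0 28) ^ 30 + c78 + c98 + 1, fun {T} _ _ {q} hT hB R hR => ?_⟩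
  by_contra hcon
  push Not at hcon
  obtain ⟨hmiss, hnd⟩ := hcon
  apply hR
  obtain ⟨p, f, hp, hf, rfl⟩ := (isPrimePow_nat_iff _).1 (show IsPrimePow q from hT.cond)
  have hpF := Fact.mk hp
  have hq : 2 ≤ p ^ f := hp.two_le.trans (Nat.le_self_pow (by omega) _)
  have hq78 : 78 ≤ p ^ f := by
    by_contra h
    have h1 : (p ^ f) ^ 30 ≤ c78 := by
      rw [h78]
      exact Nat.pow_le_pow_left (not_le.1 h).le 30
    have h2 := card_td4_le hT
    omega
  have t₁ := tor_td4 hT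
  obtain ⟨k₁, K₁⟩ := lt_of_card (c := 1) (n := 28) (card_td4_le hT) (by omega) (le_N12 _) (by rw [one_mul])
  have d₁ := t₁.dvd_of_not_missC hmiss
  have hd12 : ∀ s, Prim (p ^ f) 12 s → s ∣ Nat.card R := fun s hs => (prim_N12 (by omega) hs).trans d₁
  obtain ⟨w, hw⟩ := exists_prim (q := p ^ f) (e := 12) hq (by norm_num) (by omega)
  obtain ⟨F, _, _, hF, ⟨e⟩⟩ := hT.real
  have hch : CharP F p := charP_of_pow hp (a := f * 3) (by rw [hF, pow_mul])
  have hpiso : PIso p w T := (H325.IsoExc.piso_twD4 hT.cond hF hw).congr e.symm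
  have hsimp : IsSimpleGroup T := by
    have := (Cfsg.Agent.S1071.result hT.cond hF).1
    exact e.isSimpleGroup
  have hinv : ∀ z : T, orderOf z = 2 → 8 ≤ Nat.card (Subgroup.centralizer ({z} : Set T)) := by
    intro z hz
    by_contra h
    have h1 := Cfsg.Agent.S0212.result z hz
    have h2 : 2 * (Nat.card (Subgroup.centralizer ({z} : Set T))) ^ 2 ≤ 98 := by
      have h3 : Nat.card (Subgroup.centralizer ({z} : Set T)) ≤ 7 := by omega
      have h4 := Nat.pow_le_pow_left h3 2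
      omega
    have h3 := h98 _ h2
    omega
  have hidx : Fintype.card chevD4.Idx = 28 := by decide +kernel
  have hfth : Fth 28 F T := ((hidx ▸ Fth.of (ι := chevD4.Idx) (F := F)
    (ρ := (twistedD4 F (p ^ f)).subtype) (Subgroup.subtype_injective _)) :
      Fth 28 F ↥(twistedD4 F (p ^ f))).congr e.symm
  have hrad : ∀ S : Subgroup R, S.Normal → Group.IsSolvable S → S = ⊥ := by
    obtain ⟨τ, hτ⟩ := hfth
    refine rad (R := R) (p := p) hτ (H946.Rad.core_eq_bot hpiso (hd12 w hw)) fun t ht _ _ hA => ?_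
    rw [Fintype.card_fin]
    refine ⟨_, _, t₁, d₁, fun htN => ?_, k₁⟩
    obtain ⟨A, hAn, hA0, hAc, hAt⟩ := hA
    obtain ⟨⟨a, haA⟩, ha1⟩ := (Subgroup.ne_bot_iff_exists_ne_one (H := A)).1 hA0
    have htF := Fact.mk ht
    have hat : orderOf a = t := orderOf_eq_prime (hAt a haA) fun h => ha1 (Subtype.ext h)
    have haT : orderOf (a : T) = t := by rw [Subgroup.orderOf_coe, hat]
    have hcyc := (t₁.cyc t ht htN (a : T) haT).1
    have hcd := card_eq_td4 hT ht htN haT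
    have hcT : Nat.card T = N12 (p ^ f) * ((p ^ f) ^ 12 * (N3 (p ^ f) * N6 (p ^ f)) * ((p ^ f) ^ 6 - 1) *
        ((p ^ f) ^ 2 - 1)) := by
      have h : 1 * Nat.card T = (p ^ f) ^ 12 * (((p ^ f) ^ 2 - 1) * ((p ^ f) ^ 6 - 1) *
        ((p ^ f) ^ 8 + (p ^ f) ^ 4 + 1)) := hT.eq
      rw [one_mul] at h
      rw [h, ← H946.Rad.d4_card]
      ring
    have h13 := H946.Rad.thirteen_le ht htN
    have hmod := H946.Rad.d4_mod (q := p ^ f) (by omega) ht htN
    have hnt : ¬ t ∣ (p ^ f) ^ 12 * (N3 (p ^ f) * N6 (p ^ f)) * ((p ^ f) ^ 6 - 1) * ((p ^ f) ^ 2 - 1) := by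
      intro h
      have h1 : 4 ≡ 0 [MOD t] := hmod.symm.trans ((Nat.modEq_zero_iff_dvd).2 h)
      have := Nat.le_of_dvd (by norm_num) ((Nat.modEq_zero_iff_dvd).1 h1)
      omega
    have hN := Cfsg.Agent.H946.Rad.card_normalizer ht haT hcyc hcd hcT hnt hmod (by norm_num) (by omega)
    have h1 := nd_norm (a := (a : T)) (two_N12 _) hcyc hcd hN (fun y hy hd => (t₁.cyc _ hy hd y rfl).2) hinv
    -- `R` normalises `⟨a⟩`
    have h2 : A.map R.subtype = Subgroup.zpowers (a : T) := by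
      apply le_antisymm
      · rintro _ ⟨x, hx, rfl⟩
        refine H946.Rad.mem_zpowers_of_cyclic hcyc (Subgroup.mem_centralizer_singleton_iff.2 rfl)
          (Subgroup.mem_centralizer_singleton_iff.2 (congrArg Subtype.val (hAc x hx a haA))) ?_
        rw [haT]
        exact congrArg Subtype.val (hAt x hx)
      · rw [Subgroup.zpowers_le]
        exact ⟨a, haA, rfl⟩
    have h3 : R ≤ Subgroup.normalizer (Subgroup.zpowers (a : T) : Set T) := by
      rw [← h2]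
      exact H946.Rad.le_normalizer_map hAn
    have h4 := hnd t a ht (haT ▸ orderOf_dvd_natCard _) (t₁.cycP ht htN) haT h3
    omega
  obtain ⟨S, c1, c2, c3, c4, c5, g, c6, c7⟩ := char_of has hrf hft hnm hp (by norm_num) hfth hrad t₁ d₁ K₁ (two_N12 _)
  rcases c7 with c7 | ⟨k, hk, rfl⟩
  · have h := charp_td4 hp hf c6.cond c7 c6.eq (IsNamed.card_dvd hT S)
      (HT.of S c3 c4 hp c6 c7 (by norm_num) hd12)
    subst h
    exact eq_top_of_name hT c6
  · exfalso
    obtain ⟨e⟩ := c6.real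
    exact alt_absurd hq78 (card_td4_le hT) t₁ d₁ S c4 c5 hk e

end Cfsg.Agent.H220.Rg
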